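import Mathlib
import Groth.Agent.Lib.Helper5.CA.PSExt
import Groth.Agent.Lib.Helper5.CA.PSCont
import Groth.Agent.Lib.Helper5.FSm.PSComplete

/-!
# The node `k[[x,y]]/(xy)` (helper8)

Elementary facts on `k[[x,y]]/(xy)` over a field, and the coordinate change
`k[[X,Y]]/(Y^2 - X^2) ≅ k[[x,y]]/(xy)` when `2` is invertible.
-/

universe u

namespace Groth.Agent.H8.NodeInv

open MvPowerSeries

variable (k : Type u) [Field k]

/-- restriction of a power series in two variables to the `i`-axis. -/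
noncomputable def ax (i : Fin 2) (φ : MvPowerSeries (Fin 2) k) : PowerSeries k :=
  PowerSeries.mk fun b => coeff (Finsupp.single i b) φ

theorem ax_mul (i : Fin 2) (φ ψ : MvPowerSeries (Fin 2) k) :
    ax k i (φ * ψ) = ax k i φ * ax k i ψ := by
  classical
  ext c
  rw [PowerSeries.coeff_mul]
  simp only [ax, PowerSeries.coeff_mk]
  rw [MvPowerSeries.coeff_mul, Finsupp.antidiagonal_single, Finset.sum_map]
  rfl

theorem X0_dvd_iff (φ : MvPowerSeries (Fin 2) k) :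
    (X 0 : MvPowerSeries (Fin 2) k) ∣ φ ↔ ax k 1 φ = 0 := by
  rw [MvPowerSeries.X_dvd_iff]
  constructor
  · intro h
    ext b
    simp only [ax, PowerSeries.coeff_mk, map_zero]
    exact h _ (by simp)
  · intro h m hm
    have hm' : m = Finsupp.single 1 (m 1) :=
      Finsupp.ext (Fin.forall_fin_two.mpr ⟨by rw [hm]; simp, by simp⟩)
    rw [hm']
    have := congrArg (PowerSeries.coeff (m 1)) h
    simpa [ax] using this

theorem X0_ne_zero : (X 0 : MvPowerSeries (Fin 2) k) ≠ 0 := by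
  intro h
  have := congrArg (coeff (Finsupp.single (0 : Fin 2) 1)) h
  rw [coeff_index_single_self_X, map_zero] at this
  exact one_ne_zero this

theorem X1_ne_zero : (X 1 : MvPowerSeries (Fin 2) k) ≠ 0 := by
  intro h
  have := congrArg (coeff (Finsupp.single (1 : Fin 2) 1)) h
  rw [coeff_index_single_self_X, map_zero] at this
  exact one_ne_zero this

theorem prime_X0 : Prime (X 0 : MvPowerSeries (Fin 2) k) := by
  refine ⟨X0_ne_zero k, ?_, ?_⟩
  · intro hu
    have := MvPowerSeries.isUnit_iff_constantCoeff.mp hu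
    rw [constantCoeff_X] at this
    exact not_isUnit_zero this
  · intro a b hab
    simp only [X0_dvd_iff] at hab ⊢
    rw [ax_mul] at hab
    exact mul_eq_zero.mp hab

theorem not_X0_dvd_X1 : ¬ (X 0 : MvPowerSeries (Fin 2) k) ∣ X 1 := by
  rw [X0_dvd_iff]
  intro h
  have := congrArg (PowerSeries.coeff 1) h
  simp only [ax, PowerSeries.coeff_mk, map_zero] at this
  rw [coeff_index_single_self_X] at this
  exact one_ne_zero this

/-- the node `k[[x,y]]/(xy)`. -/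
abbrev Tq : Type u :=
  MvPowerSeries (Fin 2) k ⧸ Ideal.span {(X 0 * X 1 : MvPowerSeries (Fin 2) k)}

noncomputable def xb : Tq k := Ideal.Quotient.mk _ (X 0)

noncomputable def yb : Tq k := Ideal.Quotient.mk _ (X 1)

theorem xb_mul_yb : xb k * yb k = 0 := by
  rw [xb, yb, ← map_mul, Ideal.Quotient.eq_zero_iff_mem]
  exact Ideal.subset_span rfl

theorem ann_xb (z : Tq k) (hz : z * xb k = 0) : ∃ w, z = w * yb k := by
  obtain ⟨f, rfl⟩ := Ideal.Quotient.mk_surjective z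
  rw [xb, ← map_mul, Ideal.Quotient.eq_zero_iff_mem, Ideal.mem_span_singleton'] at hz
  obtain ⟨g, hg⟩ := hz
  have h1 : (X 0 : MvPowerSeries (Fin 2) k) * (f - g * X 1) = 0 := by linear_combination -hg
  have h2 : f - g * X 1 = 0 := (mul_eq_zero.mp h1).resolve_left (X0_ne_zero k)
  refine ⟨Ideal.Quotient.mk _ g, ?_⟩
  rw [yb, ← map_mul, ← sub_eq_zero, ← map_sub, h2, map_zero]

theorem ann_yb (z : Tq k) (hz : z * yb k = 0) : ∃ w, z = w * xb k := by
  obtain ⟨f, rfl⟩ := Ideal.Quotient.mk_surjective z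
  rw [yb, ← map_mul, Ideal.Quotient.eq_zero_iff_mem, Ideal.mem_span_singleton'] at hz
  obtain ⟨g, hg⟩ := hz
  have h1 : (X 1 : MvPowerSeries (Fin 2) k) * (f - g * X 0) = 0 := by linear_combination -hg
  have h2 : f - g * X 0 = 0 := (mul_eq_zero.mp h1).resolve_left (X1_ne_zero k)
  refine ⟨Ideal.Quotient.mk _ g, ?_⟩
  rw [xb, ← map_mul, ← sub_eq_zero, ← map_sub, h2, map_zero]

theorem isPrime_span_xb : (Ideal.span {xb k}).IsPrime := by
  haveI h0 : (Ideal.span {(X 0 : MvPowerSeries (Fin 2) k)}).IsPrime :=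
    (Ideal.span_singleton_prime (X0_ne_zero k)).mpr (prime_X0 k)
  have h1 : RingHom.ker (Ideal.Quotient.mk
      (Ideal.span {(X 0 * X 1 : MvPowerSeries (Fin 2) k)})) ≤
      Ideal.span {(X 0 : MvPowerSeries (Fin 2) k)} := by
    rw [Ideal.mk_ker, Ideal.span_singleton_le_span_singleton]
    exact Dvd.intro _ rfl
  have h2 := Ideal.map_isPrime_of_surjective
    (f := Ideal.Quotient.mk (Ideal.span {(X 0 * X 1 : MvPowerSeries (Fin 2) k)}))
    Ideal.Quotient.mk_surjective h1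
  rwa [Ideal.map_span, Set.image_singleton] at h2

theorem span_xb_le_of_isPrime (q : Ideal (Tq k)) [q.IsPrime] (hq : q ≤ Ideal.span {xb k}) :
    Ideal.span {xb k} ≤ q := by
  rw [Ideal.span_singleton_le_iff_mem]
  have h0 : xb k * yb k ∈ q := by rw [xb_mul_yb]; exact q.zero_mem
  rcases Ideal.IsPrime.mem_or_mem ‹q.IsPrime› h0 with h | h
  · exact h
  · exfalso
    have h1 := hq h
    rw [Ideal.mem_span_singleton'] at h1
    obtain ⟨w, hw⟩ := h1
    obtain ⟨g, rfl⟩ := Ideal.Quotient.mk_surjective w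
    rw [xb, yb, ← map_mul, Ideal.Quotient.eq, Ideal.mem_span_singleton'] at hw
    obtain ⟨g', hg'⟩ := hw
    apply not_X0_dvd_X1 k
    refine ⟨g - g' * X 1, ?_⟩
    linear_combination hg'

/-- the constant coefficient on the node. -/
noncomputable def cc : Tq k →+* k :=
  Ideal.Quotient.lift _ (constantCoeff : MvPowerSeries (Fin 2) k →+* k) (by
    intro a ha
    rw [Ideal.mem_span_singleton'] at ha
    obtain ⟨g, rfl⟩ := ha
    rw [map_mul, map_mul, constantCoeff_X, zero_mul, mul_zero])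

theorem cc_mk (f : MvPowerSeries (Fin 2) k) : cc k (Ideal.Quotient.mk _ f) = constantCoeff f :=
  Ideal.Quotient.lift_mk _ _ _

theorem cc_algebraMap (c : k) : cc k (algebraMap k (Tq k) c) = c := by
  have : algebraMap k (Tq k) c = Ideal.Quotient.mk _ (C c) := rfl
  rw [this, cc_mk, constantCoeff_C]

theorem cc_xb : cc k (xb k) = 0 := by rw [xb, cc_mk, constantCoeff_X]

theorem cc_yb : cc k (yb k) = 0 := by rw [yb, cc_mk, constantCoeff_X]

theorem exists_of_cc_eq_zero (z : Tq k) (hz : cc k z = 0) :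
    ∃ p q : Tq k, z = p * xb k + q * yb k := by
  obtain ⟨f, rfl⟩ := Ideal.Quotient.mk_surjective z
  rw [cc_mk] at hz
  have h1 : f ∈ Ideal.span (Set.range (X : Fin 2 → MvPowerSeries (Fin 2) k)) := by
    rw [← Groth.Agent.H5.CA.ker_constantCoeff_eq_span, RingHom.mem_ker]
    exact hz
  have h2 : Ideal.span (Set.range (X : Fin 2 → MvPowerSeries (Fin 2) k)) ≤
      Ideal.span {X 0, X 1} := by
    rw [Ideal.span_le]
    rintro _ ⟨i, rfl⟩
    revert i
    rw [Fin.forall_fin_two]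
    exact ⟨Ideal.subset_span (by simp), Ideal.subset_span (by simp)⟩
  obtain ⟨p, q, hpq⟩ := Ideal.mem_span_pair.mp (h2 h1)
  refine ⟨Ideal.Quotient.mk _ p, Ideal.Quotient.mk _ q, ?_⟩
  rw [xb, yb, ← map_mul, ← map_mul, ← map_add, hpq]

section Coord

variable {k} (h2 : (2 : k) ≠ 0)

local notation "Pk" => MvPowerSeries (Fin 2) k

instance : IsAdicComplete (Groth.Agent.H5.FSm.psIdeal (⊥ : Ideal k) 2)
    (MvPowerSeries (Fin 2) k) := inferInstance

theorem X_mem_psIdeal (i : Fin 2) :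
    (X i : MvPowerSeries (Fin 2) k) ∈ Groth.Agent.H5.FSm.psIdeal (⊥ : Ideal k) 2 :=
  Ideal.mem_sup_right (Ideal.subset_span ⟨i, rfl⟩)

include h2 in
/-- the coordinate change `X ↦ (Y - X)/2, Y ↦ (Y + X)/2` and its inverse. -/
theorem exists_coord :
    ∃ Θ : MvPowerSeries (Fin 2) k ≃ₐ[k] MvPowerSeries (Fin 2) k,
      Θ (X 1 ^ 2 - X 0 ^ 2) = X 0 * X 1 := by
  let J := Groth.Agent.H5.FSm.psIdeal (⊥ : Ideal k) 2
  let c : k := 2⁻¹
  obtain ⟨Θ, hΘ⟩ := Groth.Agent.H5.CA.exists_algHom_mvPowerSeries' (σ := Fin 2) k Pk J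
    ![c • (X 1 - X 0), c • (X 1 + X 0)] (by
      rw [Fin.forall_fin_two]
      constructor
      · show c • (X 1 - X 0 : Pk) ∈ J
        exact Submodule.smul_of_tower_mem _ c (J.sub_mem (X_mem_psIdeal 1) (X_mem_psIdeal 0))
      · show c • (X 1 + X 0 : Pk) ∈ J
        exact Submodule.smul_of_tower_mem _ c (J.add_mem (X_mem_psIdeal 1) (X_mem_psIdeal 0)))
  obtain ⟨Θ', hΘ'⟩ := Groth.Agent.H5.CA.exists_algHom_mvPowerSeries' (σ := Fin 2) k Pk J
    ![(X 1 - X 0), (X 1 + X 0)] (by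
      rw [Fin.forall_fin_two]
      exact ⟨J.sub_mem (X_mem_psIdeal 1) (X_mem_psIdeal 0),
        J.add_mem (X_mem_psIdeal 1) (X_mem_psIdeal 0)⟩)
  have hΘ0 : Θ (X 0) = c • (X 1 - X 0) := hΘ 0
  have hΘ1 : Θ (X 1) = c • (X 1 + X 0) := hΘ 1
  have hΘ'0 : Θ' (X 0) = X 1 - X 0 := hΘ' 0
  have hΘ'1 : Θ' (X 1) = X 1 + X 0 := hΘ' 1
  have hc2 : (c + c : k) = 1 := by
    show (2⁻¹ + 2⁻¹ : k) = 1
    rw [← two_mul, mul_inv_cancel₀ h2]
  have hsm : ∀ f : Pk, c • f + c • f = f := fun f => by rw [← add_smul, hc2, one_smul]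
  have hA0 : c • ((X 1 + X 0 : Pk) - (X 1 - X 0)) = X 0 := by
    have : (X 1 + X 0 : Pk) - (X 1 - X 0) = X 0 + X 0 := by ring
    rw [this, smul_add, hsm]
  have hA1 : c • ((X 1 + X 0 : Pk) + (X 1 - X 0)) = X 1 := by
    have : (X 1 + X 0 : Pk) + (X 1 - X 0) = X 1 + X 1 := by ring
    rw [this, smul_add, hsm]
  have e0 : Θ' (Θ (X 0)) = X 0 := by
    rw [hΘ0, map_smul, map_sub, hΘ'0, hΘ'1, hA0]
  have e1 : Θ' (Θ (X 1)) = X 1 := by
    rw [hΘ1, map_smul, map_add, hΘ'0, hΘ'1, hA1]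
  have e0' : Θ (Θ' (X 0)) = X 0 := by
    rw [hΘ'0, map_sub, hΘ0, hΘ1, ← smul_sub, hA0]
  have e1' : Θ (Θ' (X 1)) = X 1 := by
    rw [hΘ'1, map_add, hΘ0, hΘ1, ← smul_add, hA1]
  have h12 : Θ'.comp Θ = AlgHom.id k Pk := by
    refine Groth.Agent.H5.CA.algHom_ext_of_isHausdorff_fin J _ _ ?_ ?_
    · rw [Fin.forall_fin_two]
      constructor
      · rw [AlgHom.comp_apply, e0]; exact X_mem_psIdeal 0
      · rw [AlgHom.comp_apply, e1]; exact X_mem_psIdeal 1
    · rw [Fin.forall_fin_two]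
      constructor
      · rw [AlgHom.comp_apply, e0, AlgHom.id_apply]
      · rw [AlgHom.comp_apply, e1, AlgHom.id_apply]
  have h21 : Θ.comp Θ' = AlgHom.id k Pk := by
    refine Groth.Agent.H5.CA.algHom_ext_of_isHausdorff_fin J _ _ ?_ ?_
    · rw [Fin.forall_fin_two]
      constructor
      · rw [AlgHom.comp_apply, e0']; exact X_mem_psIdeal 0
      · rw [AlgHom.comp_apply, e1']; exact X_mem_psIdeal 1
    · rw [Fin.forall_fin_two]
      constructor
      · rw [AlgHom.comp_apply, e0', AlgHom.id_apply]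
      · rw [AlgHom.comp_apply, e1', AlgHom.id_apply]
  refine ⟨AlgEquiv.ofAlgHom Θ Θ' h21 h12, ?_⟩
  show Θ (X 1 ^ 2 - X 0 ^ 2) = X 0 * X 1
  rw [map_sub, map_pow, map_pow, hΘ0, hΘ1, Algebra.smul_def, Algebra.smul_def]
  have hA : algebraMap k Pk c * 2 = 1 := by
    have : (2 : Pk) = algebraMap k Pk 2 := (map_ofNat (algebraMap k Pk) 2).symm
    rw [this, ← map_mul]
    show algebraMap k Pk (2⁻¹ * 2) = 1
    rw [inv_mul_cancel₀ h2, map_one]
  linear_combination (X 0 * X 1 * (algebraMap k Pk c * 2 + 1) : Pk) * hA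

include h2 in
/-- `k[[X,Y]]/(Y^2 - X^2) ≅ k[[x,y]]/(xy)`. -/
theorem exists_algEquiv_node :
    Nonempty ((MvPowerSeries (Fin 2) k ⧸
        Ideal.span {(X 1 ^ 2 - X 0 ^ 2 : MvPowerSeries (Fin 2) k)}) ≃ₐ[k] Tq k) := by
  obtain ⟨Θ, hΘ⟩ := exists_coord h2
  refine ⟨Ideal.quotientEquivAlg _ _ Θ ?_⟩
  rw [Ideal.map_span, Set.image_singleton]
  congr 2
  exact hΘ.symm

end Coord

end Groth.Agent.H8.NodeInv
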