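import Mathlib
import Groth.Agent.Lib.Helper8.NodeInv.PSFacts

/-!
# Eigen-coordinates on a node with an involution preserving the branches (helper8)
-/

universe u

namespace Groth.Agent.H8.NodeInv

open IsLocalRing

section LemmaA

variable {k : Type u} [Field k] {S : Type u} [CommRing S] [IsLocalRing S] [Algebra k S]
  (I : Ideal S) (σ : S →+* S) (ρ : S →+* k)

/-- the residue of the multiplier squares to one. -/
theorem rho_sq_eq_one
    (hρm : ∀ s, s ∈ maximalIdeal S → ρ s = 0)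
    (hρσ : ∀ s, ρ (σ s) = ρ s)
    (hσσ : ∀ s, σ (σ s) = s) (hσI : ∀ s ∈ I, σ s ∈ I) (hI : I ≤ maximalIdeal S)
    (x₁ y₁ : S) (hy : y₁ ∈ maximalIdeal S)
    (H1 : ∀ s, s * x₁ ∈ I → ∃ s', s - s' * y₁ ∈ I)
    (α₁ : S) (hα : σ x₁ - α₁ * x₁ ∈ I) : ρ α₁ ^ 2 = 1 := by
  have h1 : x₁ - σ α₁ * σ x₁ ∈ I := by
    have := hσI _ hα
    rwa [map_sub, map_mul, hσσ] at this
  have h2 : (1 - σ α₁ * α₁) * x₁ ∈ I := by
    have : (1 - σ α₁ * α₁) * x₁ = (x₁ - σ α₁ * σ x₁) + σ α₁ * (σ x₁ - α₁ * x₁) := by ring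
    rw [this]
    exact I.add_mem h1 (I.mul_mem_left _ hα)
  obtain ⟨s', hs'⟩ := H1 _ h2
  have h3 : ρ (1 - σ α₁ * α₁ - s' * y₁) = 0 := hρm _ (hI hs')
  rw [map_sub, map_sub, map_one, map_mul, map_mul, hρσ, hρm y₁ hy, mul_zero, sub_zero] at h3
  rw [pow_two]
  exact (sub_eq_zero.mp h3).symm

/-- the eigenvector produced from `x₁`. -/
theorem exists_eigen_lift (h2 : (2 : k) ≠ 0)
    (hρk : ∀ c : k, ρ (algebraMap k S c) = c)
    (hρm : ∀ s, s ∈ maximalIdeal S ↔ ρ s = 0)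
    (hσk : ∀ c : k, σ (algebraMap k S c) = algebraMap k S c)
    (hσσ : ∀ s, σ (σ s) = s)
    (x₁ α₁ : S) (hα : σ x₁ - α₁ * x₁ ∈ I) (a : k) (ha : ρ α₁ = a) (ha2 : a ^ 2 = 1) :
    ∃ (u ε : S), IsUnit ε ∧ σ u = algebraMap k S a * u ∧ u - ε * x₁ ∈ I := by
  refine ⟨algebraMap k S 2⁻¹ * (x₁ + algebraMap k S a * σ x₁),
    algebraMap k S 2⁻¹ * (1 + algebraMap k S a * α₁), ?_, ?_, ?_⟩
  · have hne : ρ (algebraMap k S 2⁻¹ * (1 + algebraMap k S a * α₁)) ≠ 0 := by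
      rw [map_mul, map_add, map_one, map_mul, hρk, hρk, ha, ← pow_two, ha2, one_add_one_eq_two,
        inv_mul_cancel₀ h2]
      exact one_ne_zero
    by_contra hu
    exact hne ((hρm _).mp (by rwa [mem_maximalIdeal, mem_nonunits_iff]))
  · rw [map_mul, map_add, map_mul, hσk, hσk, hσσ]
    have haa : algebraMap k S a * algebraMap k S a = 1 := by
      rw [← map_mul, ← pow_two, ha2, map_one]
    linear_combination (-(algebraMap k S 2⁻¹ * σ x₁)) * haa
  · have : algebraMap k S 2⁻¹ * (x₁ + algebraMap k S a * σ x₁) -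
        algebraMap k S 2⁻¹ * (1 + algebraMap k S a * α₁) * x₁ =
        algebraMap k S 2⁻¹ * algebraMap k S a * (σ x₁ - α₁ * x₁) := by ring
    rw [this]
    exact I.mul_mem_left _ hα

end LemmaA

/-- Eigen-coordinates on the closed fibre. -/
theorem exists_eigen {k : Type u} [Field k] (h2 : (2 : k) ≠ 0) {S : Type u} [CommRing S]
    [IsLocalRing S] [Algebra k S]
    (I : Ideal S) (π : S →ₐ[k] Tq k) (hπ : Function.Surjective π)
    (hker : ∀ s, π s = 0 ↔ s ∈ I)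
    (σ : S →+* S) (hσk : ∀ c : k, σ (algebraMap k S c) = algebraMap k S c)
    (hσσ : ∀ s, σ (σ s) = s) (hσI : ∀ s ∈ I, σ s ∈ I)
    (hbr : ∀ P ∈ I.minimalPrimes, Ideal.map σ P = P) :
    ∃ (ξ₁ ξ₂ : k) (u v : S), ξ₁ ^ 2 = 1 ∧ ξ₂ ^ 2 = 1 ∧ σ u = algebraMap k S ξ₂ * u ∧
      σ v = algebraMap k S ξ₁ * v ∧ u * v ∈ I ∧ maximalIdeal S = Ideal.span {u, v} ⊔ I ∧
      (∀ s : S, ∃ c : k, s - algebraMap k S c ∈ maximalIdeal S) := by
  classical
  let ρ : S →+* k := (cc k).comp π.toRingHom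
  have hρπ : ∀ s, ρ s = cc k (π s) := fun _ => rfl
  have hρk : ∀ c, ρ (algebraMap k S c) = c := fun c => by
    rw [hρπ, AlgHom.commutes, cc_algebraMap]
  have hρsurj : Function.Surjective ρ := fun c => ⟨algebraMap k S c, hρk c⟩
  have hkerρ : RingHom.ker ρ = maximalIdeal S := by
    haveI := RingHom.ker_isMaximal_of_surjective ρ hρsurj
    exact IsLocalRing.eq_maximalIdeal ‹_›
  have hρm : ∀ s, s ∈ maximalIdeal S ↔ ρ s = 0 := fun s => by rw [← hkerρ, RingHom.mem_ker]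
  have hIm : I ≤ maximalIdeal S := fun s hs =>
    (hρm s).mpr (by rw [hρπ, (hker s).mpr hs, map_zero])
  have hσm : ∀ s, s ∈ maximalIdeal S → σ s ∈ maximalIdeal S := by
    intro s hs
    rw [mem_maximalIdeal, mem_nonunits_iff] at hs ⊢
    intro hu
    apply hs
    have := hu.map σ
    rwa [hσσ] at this
  have hρσ : ∀ s, ρ (σ s) = ρ s := by
    intro s
    have h1 : s - algebraMap k S (ρ s) ∈ maximalIdeal S := by
      rw [hρm, map_sub, hρk, sub_self]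
    have h2' := hσm _ h1
    rw [map_sub, hσk, hρm, map_sub, hρk, sub_eq_zero] at h2'
    exact h2'
  obtain ⟨x₁, hx₁⟩ := hπ (xb k)
  obtain ⟨y₁, hy₁⟩ := hπ (yb k)
  have hx₁m : x₁ ∈ maximalIdeal S := (hρm _).mpr (by rw [hρπ, hx₁, cc_xb])
  have hy₁m : y₁ ∈ maximalIdeal S := (hρm _).mpr (by rw [hρπ, hy₁, cc_yb])
  have hxy : x₁ * y₁ ∈ I := (hker _).mp (by rw [map_mul, hx₁, hy₁, xb_mul_yb])
  have H1x : ∀ s, s * x₁ ∈ I → ∃ s', s - s' * y₁ ∈ I := by
    intro s hs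
    have h := (hker _).mpr hs
    rw [map_mul, hx₁] at h
    obtain ⟨w, hw⟩ := ann_xb k _ h
    obtain ⟨s', rfl⟩ := hπ w
    exact ⟨s', (hker _).mp (by rw [map_sub, map_mul, hy₁, hw, sub_self])⟩
  have H1y : ∀ s, s * y₁ ∈ I → ∃ s', s - s' * x₁ ∈ I := by
    intro s hs
    have h := (hker _).mpr hs
    rw [map_mul, hy₁] at h
    obtain ⟨w, hw⟩ := ann_yb k _ h
    obtain ⟨s', rfl⟩ := hπ w
    exact ⟨s', (hker _).mp (by rw [map_sub, map_mul, hx₁, hw, sub_self])⟩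
  have hkerπ : RingHom.ker π.toRingHom = I := by
    ext s
    rw [RingHom.mem_ker]
    exact hker s
  let 𝔓 : Ideal S := Ideal.comap π.toRingHom (Ideal.span {xb k})
  have h𝔓 : 𝔓 ∈ I.minimalPrimes := by
    haveI := isPrime_span_xb k
    refine ⟨⟨Ideal.comap_isPrime _ _, ?_⟩, ?_⟩
    · intro s hs
      show π s ∈ Ideal.span {xb k}
      rw [(hker s).mpr hs]
      exact Ideal.zero_mem _
    · intro q hq hq𝔓
      obtain ⟨hq, hIq⟩ := hq
      haveI := hq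
      haveI : (Ideal.map π.toRingHom q).IsPrime :=
        Ideal.map_isPrime_of_surjective (f := π.toRingHom) hπ (by rw [hkerπ]; exact hIq)
      have h1 : Ideal.map π.toRingHom q ≤ Ideal.span {xb k} := by
        rw [Ideal.map_le_iff_le_comap]
        exact hq𝔓
      have h2' := span_xb_le_of_isPrime k _ h1
      intro s hs
      have h3 : π.toRingHom s ∈ Ideal.map π.toRingHom q := h2' hs
      have h4 : s ∈ Ideal.comap π.toRingHom (Ideal.map π.toRingHom q) := h3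
      rw [Ideal.comap_map_of_surjective π.toRingHom hπ q, ← RingHom.ker_eq_comap_bot, hkerπ,
        sup_eq_left.mpr hIq] at h4
      exact h4
  have hσx : ∃ α₁, σ x₁ - α₁ * x₁ ∈ I := by
    have hx𝔓 : x₁ ∈ 𝔓 := by
      have h0 : π x₁ ∈ Ideal.span {xb k} := by
        rw [hx₁]
        exact Ideal.subset_span rfl
      exact h0
    have h1 : σ x₁ ∈ Ideal.map σ 𝔓 := Ideal.mem_map_of_mem σ hx𝔓
    rw [hbr 𝔓 h𝔓] at h1
    have h2' : π (σ x₁) ∈ Ideal.span {xb k} := h1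
    rw [Ideal.mem_span_singleton'] at h2'
    obtain ⟨w, hw⟩ := h2'
    obtain ⟨α₁, rfl⟩ := hπ w
    exact ⟨α₁, (hker _).mp (by rw [map_sub, map_mul, hx₁, hw, sub_self])⟩
  obtain ⟨α₁, hα⟩ := hσx
  have ha2 : ρ α₁ ^ 2 = 1 := rho_sq_eq_one I σ ρ (fun s hs => (hρm s).mp hs) hρσ hσσ hσI hIm
    x₁ y₁ hy₁m H1x α₁ hα
  obtain ⟨u, εu, hεu, hσu, hu⟩ :=
    exists_eigen_lift I σ ρ h2 hρk hρm hσk hσσ x₁ α₁ hα (ρ α₁) rfl ha2
  have hα₁u : IsUnit α₁ := by
    by_contra hnu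
    have h0 : ρ α₁ = 0 := (hρm _).mp (by rwa [mem_maximalIdeal, mem_nonunits_iff])
    rw [h0] at ha2
    simp at ha2
  have hσy : ∃ β₁, σ y₁ - β₁ * y₁ ∈ I := by
    have h1 : σ x₁ * σ y₁ ∈ I := by
      rw [← map_mul]
      exact hσI _ hxy
    have h2' : α₁ * (σ y₁ * x₁) ∈ I := by
      have : α₁ * (σ y₁ * x₁) = σ x₁ * σ y₁ - (σ x₁ - α₁ * x₁) * σ y₁ := by ring
      rw [this]
      exact I.sub_mem h1 (I.mul_mem_right _ hα)
    have h3 : σ y₁ * x₁ ∈ I := by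
      obtain ⟨α', hα'⟩ := hα₁u.exists_left_inv
      have : σ y₁ * x₁ = α' * (α₁ * (σ y₁ * x₁)) := by rw [← mul_assoc, hα', one_mul]
      rw [this]
      exact I.mul_mem_left _ h2'
    exact H1x _ h3
  obtain ⟨β₁, hβ⟩ := hσy
  have hb2 : ρ β₁ ^ 2 = 1 := rho_sq_eq_one I σ ρ (fun s hs => (hρm s).mp hs) hρσ hσσ hσI hIm
    y₁ x₁ hx₁m H1y β₁ hβ
  obtain ⟨v, εv, hεv, hσv, hv⟩ :=
    exists_eigen_lift I σ ρ h2 hρk hρm hσk hσσ y₁ β₁ hβ (ρ β₁) rfl hb2
  have hum : u ∈ maximalIdeal S := by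
    have : u = (u - εu * x₁) + εu * x₁ := by ring
    rw [this]
    exact Ideal.add_mem _ (hIm hu) (Ideal.mul_mem_left _ _ hx₁m)
  have hvm : v ∈ maximalIdeal S := by
    have : v = (v - εv * y₁) + εv * y₁ := by ring
    rw [this]
    exact Ideal.add_mem _ (hIm hv) (Ideal.mul_mem_left _ _ hy₁m)
  refine ⟨ρ β₁, ρ α₁, u, v, hb2, ha2, hσu, hσv, ?_, ?_, ?_⟩
  · have : u * v = (u - εu * x₁) * v + εu * x₁ * (v - εv * y₁) + εu * εv * (x₁ * y₁) := by ring
    rw [this]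
    exact I.add_mem (I.add_mem (I.mul_mem_right _ hu) (I.mul_mem_left _ hv))
      (I.mul_mem_left _ hxy)
  · refine le_antisymm ?_ (sup_le ?_ hIm)
    · intro s hs
      have hx₁J : x₁ ∈ Ideal.span {u, v} ⊔ I := by
        obtain ⟨ε', hε'⟩ := hεu.exists_left_inv
        have : x₁ = ε' * u - ε' * (u - εu * x₁) := by
          have h0 : x₁ = (ε' * εu) * x₁ := by rw [hε', one_mul]
          linear_combination h0
        rw [this]
        exact Ideal.sub_mem _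
          (Ideal.mem_sup_left (Ideal.mul_mem_left _ _ (Ideal.subset_span (by simp))))
          (Ideal.mem_sup_right (I.mul_mem_left _ hu))
      have hy₁J : y₁ ∈ Ideal.span {u, v} ⊔ I := by
        obtain ⟨ε', hε'⟩ := hεv.exists_left_inv
        have : y₁ = ε' * v - ε' * (v - εv * y₁) := by
          have h0 : y₁ = (ε' * εv) * y₁ := by rw [hε', one_mul]
          linear_combination h0
        rw [this]
        exact Ideal.sub_mem _
          (Ideal.mem_sup_left (Ideal.mul_mem_left _ _ (Ideal.subset_span (by simp))))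
          (Ideal.mem_sup_right (I.mul_mem_left _ hv))
      have h0 : cc k (π s) = 0 := (hρm s).mp hs
      obtain ⟨p, q, hpq⟩ := exists_of_cc_eq_zero k _ h0
      obtain ⟨p', rfl⟩ := hπ p
      obtain ⟨q', rfl⟩ := hπ q
      have h1 : s - (p' * x₁ + q' * y₁) ∈ I :=
        (hker _).mp (by rw [map_sub, map_add, map_mul, map_mul, hx₁, hy₁, hpq, sub_self])
      have : s = (s - (p' * x₁ + q' * y₁)) + (p' * x₁ + q' * y₁) := by ring
      rw [this]
      exact Ideal.add_mem _ (Ideal.mem_sup_right h1)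
        (Ideal.add_mem _ (Ideal.mul_mem_left _ _ hx₁J) (Ideal.mul_mem_left _ _ hy₁J))
    · rw [Ideal.span_le]
      intro z hz
      rcases hz with rfl | hz
      · exact hum
      · rw [Set.mem_singleton_iff] at hz
        rw [hz]
        exact hvm
  · intro s
    exact ⟨ρ s, (hρm _).mpr (by rw [map_sub, hρk, sub_self])⟩

end Groth.Agent.H8.NodeInv
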