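import Mathlib
import Groth.Agent.Lib.Helper8.NodeCpl.Approx

/-!
# Equivariant successive approximation for a node with involution (helper8)
-/

universe u

namespace Groth.Agent.H8.NodeInv

open IsLocalRing

/-- the ring identity behind the equivariant correction step. -/
theorem key_identity {S : Type*} [CommRing S] (U V T C a b sa sb X₁ X₂ H : S) (hH : H * 2 = 1)
    (hX1 : X₁ * X₁ = 1) (hX2 : X₂ * X₂ = 1) (hδt : H * (1 + X₁ * X₂) * T = T) :
    (U - H * (a + X₂ * sa)) * (V - H * (b + X₁ * sb)) - (T + H * (1 + X₁ * X₂) * C) =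
      H * ((U * V - T - (C + U * b + V * a)) +
        X₁ * X₂ * (X₂ * U * (X₁ * V) - T - (C + X₂ * U * sb + X₁ * V * sa))) +
      H * (a + X₂ * sa) * (H * (b + X₁ * sb)) := by
  linear_combination (-(U * V)) * hH + (-(U * V * H * X₂ * X₂) + H * X₂ * V * sa) * hX1 +
    (-(U * V * H) + H * X₁ * U * sb) * hX2 + hδt

section Iter

variable {k : Type u} [Field k] {R S : Type u} [CommRing R] [IsLocalRing R]
  [CommRing S] [Algebra k R] [Algebra R S] [Algebra k S] [IsScalarTower k R S]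

local notation "II" => Ideal.map (algebraMap R S) (maximalIdeal R)

theorem sigma_mem_pow (σ : S →+* S) (hσR : ∀ r : R, σ (algebraMap R S r) = algebraMap R S r)
    (n : ℕ) (s : S) (hs : s ∈ II ^ n) : σ s ∈ II ^ n := by
  have h : II ^ n ≤ Ideal.comap σ (II ^ n) := by
    rw [← Ideal.map_pow, Ideal.map_le_iff_le_comap]
    intro r hr
    rw [Ideal.mem_comap, Ideal.mem_comap, hσR]
    exact Ideal.mem_map_of_mem _ hr
  exact h hs

theorem algebraMap_mem_pow (n : ℕ) (c : R) (hc : c ∈ maximalIdeal R ^ n) :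
    algebraMap R S c ∈ II ^ n := by
  rw [← Ideal.map_pow]
  exact Ideal.mem_map_of_mem _ hc

theorem exists_decomp (u v : S)
    (hD : ∀ s : S, ∃ (c : R) (p q : S), s - (algebraMap R S c + p * u + q * v) ∈ II)
    (n : ℕ) (e : S) (he : e ∈ II ^ n) :
    ∃ (c : R) (a b : S), c ∈ maximalIdeal R ^ n ∧ a ∈ II ^ n ∧ b ∈ II ^ n ∧
      e - (algebraMap R S c + u * b + v * a) ∈ II ^ (n + 1) := by
  rw [← Ideal.map_pow] at he
  unfold Ideal.map at he
  induction he using Submodule.span_induction with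
  | mem y hy =>
    obtain ⟨r, hr, rfl⟩ := hy
    exact ⟨r, 0, 0, hr, zero_mem _, zero_mem _, by simp⟩
  | zero => exact ⟨0, 0, 0, zero_mem _, zero_mem _, zero_mem _, by simp⟩
  | add y z _ _ hy hz =>
    obtain ⟨c, a, b, hc, ha, hb, h⟩ := hy
    obtain ⟨c', a', b', hc', ha', hb', h'⟩ := hz
    refine ⟨c + c', a + a', b + b', add_mem hc hc', add_mem ha ha', add_mem hb hb', ?_⟩
    have : y + z - (algebraMap R S (c + c') + u * (b + b') + v * (a + a')) =
        (y - (algebraMap R S c + u * b + v * a)) +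
          (z - (algebraMap R S c' + u * b' + v * a')) := by
      rw [map_add]; ring
    rw [this]
    exact add_mem h h'
  | smul s y _ hy =>
    obtain ⟨c, a, b, hc, ha, hb, h⟩ := hy
    obtain ⟨c', p, q, hs⟩ := hD s
    have hcI : algebraMap R S c ∈ II ^ n := algebraMap_mem_pow n c hc
    refine ⟨c' * c, s * a + q * algebraMap R S c, s * b + p * algebraMap R S c,
      Ideal.mul_mem_left _ _ hc,
      add_mem (Ideal.mul_mem_left _ _ ha) (Ideal.mul_mem_left _ _ hcI),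
      add_mem (Ideal.mul_mem_left _ _ hb) (Ideal.mul_mem_left _ _ hcI), ?_⟩
    have : s • y - (algebraMap R S (c' * c) + u * (s * b + p * algebraMap R S c) +
          v * (s * a + q * algebraMap R S c)) =
        s * (y - (algebraMap R S c + u * b + v * a)) +
          (s - (algebraMap R S c' + p * u + q * v)) * algebraMap R S c := by
      rw [smul_eq_mul, map_mul]; ring
    rw [this]
    refine add_mem (Ideal.mul_mem_left _ _ h) ?_
    rw [pow_succ']
    exact Ideal.mul_mem_mul hs hcI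

theorem exists_step (h2 : (2 : k) ≠ 0) (σ : S →+* S)
    (hσR : ∀ r : R, σ (algebraMap R S r) = algebraMap R S r) (hσσ : ∀ s, σ (σ s) = s)
    (ξ₁ ξ₂ : k) (h1 : ξ₁ ^ 2 = 1) (h2' : ξ₂ ^ 2 = 1) (u₀ v₀ : S)
    (hD₀ : ∀ s : S, ∃ (c : R) (p q : S), s - (algebraMap R S c + p * u₀ + q * v₀) ∈ II)
    (n : ℕ) (hn : 1 ≤ n) (u v : S) (t : R)
    (hu : u - u₀ ∈ II) (hv : v - v₀ ∈ II)
    (hσu : σ u = algebraMap k S ξ₂ * u) (hσv : σ v = algebraMap k S ξ₁ * v)
    (ht : t ∈ maximalIdeal R) (ht0 : ξ₁ = -ξ₂ → t = 0)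
    (he : u * v - algebraMap R S t ∈ II ^ n) :
    ∃ (u' v' : S) (t' : R), u' - u₀ ∈ II ∧ v' - v₀ ∈ II ∧
      σ u' = algebraMap k S ξ₂ * u' ∧ σ v' = algebraMap k S ξ₁ * v' ∧
      t' ∈ maximalIdeal R ∧ (ξ₁ = -ξ₂ → t' = 0) ∧
      u' * v' - algebraMap R S t' ∈ II ^ (n + 1) ∧
      u' - u ∈ II ^ n ∧ v' - v ∈ II ^ n ∧ t' - t ∈ maximalIdeal R ^ n := by
  have hσk : ∀ c : k, σ (algebraMap k S c) = algebraMap k S c := fun c => by
    rw [IsScalarTower.algebraMap_apply k R S, hσR]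
  have hD : ∀ s : S, ∃ (c : R) (p q : S), s - (algebraMap R S c + p * u + q * v) ∈ II := by
    intro s
    obtain ⟨c, p, q, h⟩ := hD₀ s
    refine ⟨c, p, q, ?_⟩
    have : s - (algebraMap R S c + p * u + q * v) =
        (s - (algebraMap R S c + p * u₀ + q * v₀)) - p * (u - u₀) - q * (v - v₀) := by ring
    rw [this]
    exact Ideal.sub_mem _ (Ideal.sub_mem _ h (Ideal.mul_mem_left _ _ hu))
      (Ideal.mul_mem_left _ _ hv)
  obtain ⟨c, a, b, hc, ha, hb, hr⟩ := exists_decomp u v hD n _ he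
  have hpowle : II ^ n ≤ II := Ideal.pow_le_self (by omega)
  have hX1 : algebraMap k S ξ₁ * algebraMap k S ξ₁ = 1 := by
    rw [← map_mul, ← pow_two, h1, map_one]
  have hX2 : algebraMap k S ξ₂ * algebraMap k S ξ₂ = 1 := by
    rw [← map_mul, ← pow_two, h2', map_one]
  have hH : algebraMap k S 2⁻¹ * 2 = 1 := by
    have : (2 : S) = algebraMap k S 2 := (map_ofNat (algebraMap k S) 2).symm
    rw [this, ← map_mul, inv_mul_cancel₀ h2, map_one]
  have hcases : ξ₁ = ξ₂ ∨ ξ₁ = -ξ₂ := by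
    have h0 : (ξ₁ - ξ₂) * (ξ₁ + ξ₂) = 0 := by linear_combination h1 - h2'
    rcases mul_eq_zero.mp h0 with h | h
    · left; exact sub_eq_zero.mp h
    · right; exact eq_neg_of_add_eq_zero_left h
  have hδ : algebraMap k S (2⁻¹ * (1 + ξ₁ * ξ₂)) =
      algebraMap k S 2⁻¹ * (1 + algebraMap k S ξ₁ * algebraMap k S ξ₂) := by
    rw [map_mul, map_add, map_one, map_mul]
  have hδt : algebraMap k S 2⁻¹ * (1 + algebraMap k S ξ₁ * algebraMap k S ξ₂) *
      algebraMap R S t = algebraMap R S t := by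
    rcases hcases with h | h
    · rw [← hδ, h, ← pow_two, h2', one_add_one_eq_two, inv_mul_cancel₀ h2, map_one, one_mul]
    · rw [ht0 h, map_zero, mul_zero]
  have hσa : σ a ∈ II ^ n := sigma_mem_pow σ hσR n a ha
  have hσb : σ b ∈ II ^ n := sigma_mem_pow σ hσR n b hb
  have ha' : algebraMap k S 2⁻¹ * (a + algebraMap k S ξ₂ * σ a) ∈ II ^ n :=
    Ideal.mul_mem_left _ _ (add_mem ha (Ideal.mul_mem_left _ _ hσa))
  have hb' : algebraMap k S 2⁻¹ * (b + algebraMap k S ξ₁ * σ b) ∈ II ^ n :=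
    Ideal.mul_mem_left _ _ (add_mem hb (Ideal.mul_mem_left _ _ hσb))
  refine ⟨u - algebraMap k S 2⁻¹ * (a + algebraMap k S ξ₂ * σ a),
    v - algebraMap k S 2⁻¹ * (b + algebraMap k S ξ₁ * σ b),
    t + algebraMap k R (2⁻¹ * (1 + ξ₁ * ξ₂)) * c, ?_, ?_, ?_, ?_, ?_, ?_, ?_, ?_, ?_, ?_⟩
  · have : u - algebraMap k S 2⁻¹ * (a + algebraMap k S ξ₂ * σ a) - u₀ =
        (u - u₀) - algebraMap k S 2⁻¹ * (a + algebraMap k S ξ₂ * σ a) := by ring
    rw [this]
    exact Ideal.sub_mem _ hu (hpowle ha')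
  · have : v - algebraMap k S 2⁻¹ * (b + algebraMap k S ξ₁ * σ b) - v₀ =
        (v - v₀) - algebraMap k S 2⁻¹ * (b + algebraMap k S ξ₁ * σ b) := by ring
    rw [this]
    exact Ideal.sub_mem _ hv (hpowle hb')
  · rw [map_sub, map_mul, map_add, map_mul, hσk, hσk, hσσ, hσu]
    linear_combination (algebraMap k S 2⁻¹ * σ a) * hX2
  · rw [map_sub, map_mul, map_add, map_mul, hσk, hσk, hσσ, hσv]
    linear_combination (algebraMap k S 2⁻¹ * σ b) * hX1
  · exact Ideal.add_mem _ ht (Ideal.mul_mem_left _ _ (Ideal.pow_le_self (by omega) hc))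
  · intro h
    have h0 : (2⁻¹ : k) * (1 + ξ₁ * ξ₂) = 0 := by
      rw [h, neg_mul, ← pow_two, h2', add_neg_cancel, mul_zero]
    rw [ht0 h, h0, map_zero, zero_mul, add_zero]
  · have hσr : σ (u * v - algebraMap R S t - (algebraMap R S c + u * b + v * a)) =
        algebraMap k S ξ₂ * u * (algebraMap k S ξ₁ * v) - algebraMap R S t -
          (algebraMap R S c + algebraMap k S ξ₂ * u * σ b + algebraMap k S ξ₁ * v * σ a) := by
      simp only [map_sub, map_add, map_mul, hσu, hσv, hσR]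
    have hσr' := sigma_mem_pow σ hσR (n + 1) _ hr
    rw [hσr] at hσr'
    have hkey := key_identity u v (algebraMap R S t) (algebraMap R S c) a b (σ a) (σ b)
      (algebraMap k S ξ₁) (algebraMap k S ξ₂) (algebraMap k S 2⁻¹) hH hX1 hX2 hδt
    have htt : algebraMap R S (t + algebraMap k R (2⁻¹ * (1 + ξ₁ * ξ₂)) * c) =
        algebraMap R S t + algebraMap k S 2⁻¹ *
          (1 + algebraMap k S ξ₁ * algebraMap k S ξ₂) * algebraMap R S c := by
      rw [map_add, map_mul, ← IsScalarTower.algebraMap_apply k R S, hδ]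
    rw [htt, hkey]
    refine add_mem (Ideal.mul_mem_left _ _ (add_mem hr (Ideal.mul_mem_left _ _ hσr'))) ?_
    have h3 := Ideal.mul_mem_mul ha' hb'
    rw [← pow_add] at h3
    exact Ideal.pow_le_pow_right (by omega) h3
  · have : u - algebraMap k S 2⁻¹ * (a + algebraMap k S ξ₂ * σ a) - u =
        -(algebraMap k S 2⁻¹ * (a + algebraMap k S ξ₂ * σ a)) := by ring
    rw [this]
    exact neg_mem ha'
  · have : v - algebraMap k S 2⁻¹ * (b + algebraMap k S ξ₁ * σ b) - v =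
        -(algebraMap k S 2⁻¹ * (b + algebraMap k S ξ₁ * σ b)) := by ring
    rw [this]
    exact neg_mem hb'
  · rw [add_sub_cancel_left]
    exact Ideal.mul_mem_left _ _ hc

theorem eq_zero_of_forall_mem_pow {A : Type*} [CommRing A] (J : Ideal A) [IsHausdorff J A]
    (x : A) (h : ∀ n, x ∈ J ^ n) : x = 0 :=
  IsHausdorff.haus ‹_› x (fun n => by
    rw [SModEq.zero, smul_eq_mul, Ideal.mul_top]
    exact h n)

theorem exists_uvt (h2 : (2 : k) ≠ 0) [IsAdicComplete (maximalIdeal R) R]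
    [IsAdicComplete II S] (σ : S →+* S)
    (hσR : ∀ r : R, σ (algebraMap R S r) = algebraMap R S r) (hσσ : ∀ s, σ (σ s) = s)
    (ξ₁ ξ₂ : k) (h1 : ξ₁ ^ 2 = 1) (h2' : ξ₂ ^ 2 = 1) (u₀ v₀ : S)
    (hD₀ : ∀ s : S, ∃ (c : R) (p q : S), s - (algebraMap R S c + p * u₀ + q * v₀) ∈ II)
    (hσu₀ : σ u₀ = algebraMap k S ξ₂ * u₀) (hσv₀ : σ v₀ = algebraMap k S ξ₁ * v₀)
    (huv₀ : u₀ * v₀ ∈ II) :
    ∃ (u v : S) (t : R), u - u₀ ∈ II ∧ v - v₀ ∈ II ∧
      σ u = algebraMap k S ξ₂ * u ∧ σ v = algebraMap k S ξ₁ * v ∧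
      t ∈ maximalIdeal R ∧ (ξ₁ = -ξ₂ → t = 0) ∧ u * v = algebraMap R S t := by
  let PP : ℕ → S × S × R → Prop := fun j x =>
    x.1 - u₀ ∈ II ∧ x.2.1 - v₀ ∈ II ∧ σ x.1 = algebraMap k S ξ₂ * x.1 ∧
      σ x.2.1 = algebraMap k S ξ₁ * x.2.1 ∧ x.2.2 ∈ maximalIdeal R ∧ (ξ₁ = -ξ₂ → x.2.2 = 0) ∧
      x.1 * x.2.1 - algebraMap R S x.2.2 ∈ II ^ (j + 1)
  let RR : ℕ → S × S × R → S × S × R → Prop := fun j x x' =>
    x'.1 - x.1 ∈ II ^ (j + 1) ∧ x'.2.1 - x.2.1 ∈ II ^ (j + 1) ∧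
      x'.2.2 - x.2.2 ∈ maximalIdeal R ^ (j + 1)
  obtain ⟨s, hP, hR⟩ := Groth.Agent.H8.NodeCpl.exists_seq_dep PP RR (u₀, v₀, 0)
    ⟨by simp, by simp, hσu₀, hσv₀, zero_mem _, fun _ => rfl, by simpa using huv₀⟩ (by
      rintro j ⟨u, v, t⟩ ⟨hu, hv, hσu, hσv, ht, ht0, he⟩
      obtain ⟨u', v', t', h1', h2'', h3, h4, h5, h6, h7, h8, h9, h10⟩ :=
        exists_step h2 σ hσR hσσ ξ₁ ξ₂ h1 h2' u₀ v₀ hD₀ (j + 1) (by omega) u v t hu hv hσu hσv
          ht ht0 he
      exact ⟨(u', v', t'), ⟨h1', h2'', h3, h4, h5, h6, h7⟩, h8, h9, h10⟩)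
  obtain ⟨U, hU⟩ := Groth.Agent.H8.NodeCpl.exists_limit II (fun j => (s j).1)
    (fun j => Ideal.pow_le_pow_right (Nat.le_succ j) (hR j).1)
  obtain ⟨V, hV⟩ := Groth.Agent.H8.NodeCpl.exists_limit II (fun j => (s j).2.1)
    (fun j => Ideal.pow_le_pow_right (Nat.le_succ j) (hR j).2.1)
  obtain ⟨T, hT⟩ := Groth.Agent.H8.NodeCpl.exists_limit (maximalIdeal R) (fun j => (s j).2.2)
    (fun j => Ideal.pow_le_pow_right (Nat.le_succ j) (hR j).2.2)
  have hσk : ∀ c : k, σ (algebraMap k S c) = algebraMap k S c := fun c => by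
    rw [IsScalarTower.algebraMap_apply k R S, hσR]
  refine ⟨U, V, T, ?_, ?_, ?_, ?_, ?_, ?_, ?_⟩
  · have : U - u₀ = (U - (s 1).1) + ((s 1).1 - u₀) := by ring
    rw [this]
    have h := hU 1
    rw [pow_one] at h
    exact add_mem h (hP 1).1
  · have : V - v₀ = (V - (s 1).2.1) + ((s 1).2.1 - v₀) := by ring
    rw [this]
    have h := hV 1
    rw [pow_one] at h
    exact add_mem h (hP 1).2.1
  · rw [← sub_eq_zero]
    apply eq_zero_of_forall_mem_pow II
    intro n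
    have h := hU n
    have : σ U - algebraMap k S ξ₂ * U =
        σ (U - (s n).1) - algebraMap k S ξ₂ * (U - (s n).1) +
          (σ (s n).1 - algebraMap k S ξ₂ * (s n).1) := by
      rw [map_sub]; ring
    rw [this, (hP n).2.2.1, sub_self, add_zero]
    exact Ideal.sub_mem _ (sigma_mem_pow σ hσR n _ h) (Ideal.mul_mem_left _ _ h)
  · rw [← sub_eq_zero]
    apply eq_zero_of_forall_mem_pow II
    intro n
    have h := hV n
    have : σ V - algebraMap k S ξ₁ * V =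
        σ (V - (s n).2.1) - algebraMap k S ξ₁ * (V - (s n).2.1) +
          (σ (s n).2.1 - algebraMap k S ξ₁ * (s n).2.1) := by
      rw [map_sub]; ring
    rw [this, (hP n).2.2.2.1, sub_self, add_zero]
    exact Ideal.sub_mem _ (sigma_mem_pow σ hσR n _ h) (Ideal.mul_mem_left _ _ h)
  · have : T = (T - (s 1).2.2) + (s 1).2.2 := by ring
    rw [this]
    have h := hT 1
    rw [pow_one] at h
    exact add_mem h (hP 1).2.2.2.2.1
  · intro h
    apply eq_zero_of_forall_mem_pow (maximalIdeal R)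
    intro n
    have h' := hT n
    rw [(hP n).2.2.2.2.2.1 h, sub_zero] at h'
    exact h'
  · rw [← sub_eq_zero]
    apply eq_zero_of_forall_mem_pow II
    intro n
    have : U * V - algebraMap R S T =
        (U - (s n).1) * V + (s n).1 * (V - (s n).2.1) +
          ((s n).1 * (s n).2.1 - algebraMap R S (s n).2.2) -
          algebraMap R S (T - (s n).2.2) := by
      rw [map_sub]; ring
    rw [this]
    refine Ideal.sub_mem _ (add_mem (add_mem (Ideal.mul_mem_right _ _ (hU n))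
      (Ideal.mul_mem_left _ _ (hV n))) ?_) (algebraMap_mem_pow n _ (hT n))
    exact Ideal.pow_le_pow_right (Nat.le_succ n) (hP n).2.2.2.2.2.2

end Iter

end Groth.Agent.H8.NodeInv
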