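import Mathlib
import Groth.Agent.Lib.Helper8.NodeInv.Eigen
import Groth.Agent.Lib.Helper8.NodeInv.Iter
import Groth.Agent.Lib.Helper8.NodeCpl.Iso
import Groth.Agent.Lib.Helper8.Rig.Basic

/-!
# Deformations of a node with an involution preserving the branches (helper8, S14084)
-/

universe u

namespace Groth.Agent.H8.NodeInv

open IsLocalRing MvPowerSeries Groth.Agent.H8.NodeCpl

/-- power series over isomorphic rings. -/
noncomputable def psEquiv {A B : Type*} [CommRing A] [CommRing B] (κ : A ≃+* B) :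
    MvPowerSeries (Fin 2) A ≃+* MvPowerSeries (Fin 2) B :=
  RingEquiv.ofRingHom (MvPowerSeries.map (κ : A →+* B)) (MvPowerSeries.map (κ.symm : B →+* A))
    (RingHom.ext fun f => MvPowerSeries.ext fun n => by
      simp only [RingHom.comp_apply, MvPowerSeries.coeff_map, RingHom.id_apply,
        RingEquiv.coe_toRingHom, RingEquiv.apply_symm_apply])
    (RingHom.ext fun f => MvPowerSeries.ext fun n => by
      simp only [RingHom.comp_apply, MvPowerSeries.coeff_map, RingHom.id_apply,
        RingEquiv.coe_toRingHom, RingEquiv.symm_apply_apply])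

theorem psEquiv_apply {A B : Type*} [CommRing A] [CommRing B] (κ : A ≃+* B)
    (f : MvPowerSeries (Fin 2) A) : psEquiv κ f = MvPowerSeries.map (κ : A →+* B) f := rfl

theorem psEquiv_hom_apply {A B : Type*} [CommRing A] [CommRing B] (κ : A ≃+* B)
    (f : MvPowerSeries (Fin 2) A) :
    ((psEquiv κ : MvPowerSeries (Fin 2) A ≃+* MvPowerSeries (Fin 2) B) :
      MvPowerSeries (Fin 2) A →+* MvPowerSeries (Fin 2) B) f =
      MvPowerSeries.map (κ : A →+* B) f := rfl

theorem main (k R S : Type u) [Field k] (h2 : (2 : k) ≠ 0)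
    [CommRing R] [IsLocalRing R] [IsNoetherianRing R] [IsAdicComplete (maximalIdeal R) R]
    [CommRing S] [IsLocalRing S] [IsNoetherianRing S] [IsAdicComplete (maximalIdeal S) S]
    [Algebra k R] [Algebra R S] [Algebra k S] [IsScalarTower k R S]
    [IsLocalHom (algebraMap R S)] [Module.Flat R S]
    (e : (S ⧸ Ideal.map (algebraMap R S) (maximalIdeal R)) ≃ₐ[k]
      (MvPowerSeries (Fin 2) k ⧸
        Ideal.span {(X 1 ^ 2 - X 0 ^ 2 : MvPowerSeries (Fin 2) k)}))
    (σ : S ≃ₐ[R] S) (hσ : ∀ s, σ (σ s) = s)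
    (hbr : ∀ P ∈ (Ideal.map (algebraMap R S) (maximalIdeal R)).minimalPrimes,
      Ideal.map (σ : S →+* S) P = P) :
    ∃ (t : R) (ξ₁ ξ₂ : k), ξ₁ ^ 2 = 1 ∧ ξ₂ ^ 2 = 1 ∧ (ξ₁ = -ξ₂ → t = 0) ∧
      ∃ f : S ≃ₐ[R] (MvPowerSeries (Fin 2) R ⧸
          Ideal.span {(X 0 * X 1 - C t : MvPowerSeries (Fin 2) R)}),
        f (σ (f.symm (Ideal.Quotient.mk _ (X 0)))) =
          algebraMap k R ξ₂ • Ideal.Quotient.mk _ (X 0) ∧
        f (σ (f.symm (Ideal.Quotient.mk _ (X 1)))) =
          algebraMap k R ξ₁ • Ideal.Quotient.mk _ (X 1) := by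
  classical
  obtain ⟨eT⟩ := exists_algEquiv_node h2
  let π : S →ₐ[k] Tq k := (eT.toAlgHom.comp e.toAlgHom).comp
    (Ideal.Quotient.mkₐ k (Ideal.map (algebraMap R S) (maximalIdeal R)))
  have hπ_apply : ∀ s, π s =
      eT (e (Ideal.Quotient.mk (Ideal.map (algebraMap R S) (maximalIdeal R)) s)) := fun _ => rfl
  have hπ : Function.Surjective π := by
    intro z
    obtain ⟨w, hw⟩ := e.surjective (eT.symm z)
    obtain ⟨s, rfl⟩ := Ideal.Quotient.mk_surjective w
    exact ⟨s, by rw [hπ_apply, hw, AlgEquiv.apply_symm_apply]⟩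
  have hker : ∀ s, π s = 0 ↔ s ∈ Ideal.map (algebraMap R S) (maximalIdeal R) := by
    intro s
    rw [hπ_apply, map_eq_zero_iff eT eT.injective, map_eq_zero_iff e e.injective,
      Ideal.Quotient.eq_zero_iff_mem]
  let σr : S →+* S := (σ : S →+* S)
  have hσr : ∀ s, σr s = σ s := fun _ => rfl
  have hσR : ∀ r : R, σr (algebraMap R S r) = algebraMap R S r := fun r => σ.commutes r
  have hσk : ∀ c : k, σr (algebraMap k S c) = algebraMap k S c := fun c => by
    rw [IsScalarTower.algebraMap_apply k R S, hσR]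
  have hσσ : ∀ s, σr (σr s) = s := hσ
  have hσI : ∀ s ∈ Ideal.map (algebraMap R S) (maximalIdeal R),
      σr s ∈ Ideal.map (algebraMap R S) (maximalIdeal R) := fun s hs => by
    have := sigma_mem_pow σr hσR 1 s (by rwa [pow_one])
    rwa [pow_one] at this
  obtain ⟨ξ₁, ξ₂, u₀, v₀, h1, h2', hσu₀, hσv₀, huv₀, hgen₀, hres₀⟩ :=
    exists_eigen h2 (Ideal.map (algebraMap R S) (maximalIdeal R)) π hπ hker σr hσk hσσ hσI
      (fun P hP => hbr P hP)
  have hIm : Ideal.map (algebraMap R S) (maximalIdeal R) ≤ maximalIdeal S :=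
    ((local_hom_TFAE (algebraMap R S)).out 0 2).mp ‹_›
  have hD₀ : ∀ s : S, ∃ (c : R) (p q : S), s - (algebraMap R S c + p * u₀ + q * v₀) ∈
      Ideal.map (algebraMap R S) (maximalIdeal R) := by
    intro s
    obtain ⟨c₀, hc₀⟩ := hres₀ s
    rw [hgen₀] at hc₀
    obtain ⟨y, hy, z, hz, hyz⟩ := Submodule.mem_sup.mp hc₀
    obtain ⟨p, q, hpq⟩ := Ideal.mem_span_pair.mp hy
    refine ⟨algebraMap k R c₀, p, q, ?_⟩
    have : s - (algebraMap R S (algebraMap k R c₀) + p * u₀ + q * v₀) = z := by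
      rw [← IsScalarTower.algebraMap_apply k R S]
      linear_combination -hyz - hpq
    rw [this]
    exact hz
  haveI : IsAdicComplete (Ideal.map (algebraMap R S) (maximalIdeal R)) S :=
    Groth.Agent.H9.AdicLe.main _ (maximalIdeal S) hIm
      (Ideal.FG.map (IsNoetherian.noetherian _) _)
  obtain ⟨u, v, t, hu, hv, hσu, hσv, ht, ht0, huv⟩ :=
    exists_uvt h2 σr hσR hσσ ξ₁ ξ₂ h1 h2' u₀ v₀ hD₀ hσu₀ hσv₀ huv₀
  -- input for the completed local structure
  have hres : Function.Bijective (IsLocalRing.ResidueField.map (algebraMap R S)) := by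
    refine ⟨(IsLocalRing.ResidueField.map (algebraMap R S)).injective, ?_⟩
    intro z
    obtain ⟨s, rfl⟩ := IsLocalRing.residue_surjective z
    obtain ⟨c₀, hc₀⟩ := hres₀ s
    refine ⟨IsLocalRing.residue R (algebraMap k R c₀), ?_⟩
    rw [IsLocalRing.ResidueField.map_residue, ← IsScalarTower.algebraMap_apply k R S]
    symm
    rw [← sub_eq_zero, ← map_sub, IsLocalRing.residue_eq_zero_iff]
    exact hc₀
  have hu₀J : u₀ ∈ Ideal.span {u, v} ⊔ Ideal.map (algebraMap R S) (maximalIdeal R) := by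
    have : u₀ = u - (u - u₀) := by ring
    rw [this]
    exact Ideal.sub_mem _ (Ideal.mem_sup_left (Ideal.subset_span (by simp)))
      (Ideal.mem_sup_right hu)
  have hv₀J : v₀ ∈ Ideal.span {u, v} ⊔ Ideal.map (algebraMap R S) (maximalIdeal R) := by
    have : v₀ = v - (v - v₀) := by ring
    rw [this]
    exact Ideal.sub_mem _ (Ideal.mem_sup_left (Ideal.subset_span (by simp)))
      (Ideal.mem_sup_right hv)
  have huJ : u ∈ Ideal.span {u₀, v₀} ⊔ Ideal.map (algebraMap R S) (maximalIdeal R) := by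
    have : u = u₀ + (u - u₀) := by ring
    rw [this]
    exact Ideal.add_mem _ (Ideal.mem_sup_left (Ideal.subset_span (by simp)))
      (Ideal.mem_sup_right hu)
  have hvJ : v ∈ Ideal.span {u₀, v₀} ⊔ Ideal.map (algebraMap R S) (maximalIdeal R) := by
    have : v = v₀ + (v - v₀) := by ring
    rw [this]
    exact Ideal.add_mem _ (Ideal.mem_sup_left (Ideal.subset_span (by simp)))
      (Ideal.mem_sup_right hv)
  have hgen : maximalIdeal S =
      Ideal.span {u, v} ⊔ Ideal.map (algebraMap R S) (maximalIdeal R) := by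
    rw [hgen₀]
    apply le_antisymm
    · exact sup_le (Ideal.span_le.mpr (Set.insert_subset_iff.mpr
        ⟨hu₀J, Set.singleton_subset_iff.mpr hv₀J⟩)) le_sup_right
    · exact sup_le (Ideal.span_le.mpr (Set.insert_subset_iff.mpr
        ⟨huJ, Set.singleton_subset_iff.mpr hvJ⟩)) le_sup_right
  have hα : algebraMap R (AdicCompletion (maximalIdeal R) R) t ∈
      (maximalIdeal R).map (algebraMap R (AdicCompletion (maximalIdeal R) R)) :=
    Ideal.mem_map_of_mem _ ht
  have hxy : algebraMap S (AdicCompletion (maximalIdeal S) S) u *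
      algebraMap S (AdicCompletion (maximalIdeal S) S) v =
      θ R S (algebraMap R (AdicCompletion (maximalIdeal R) R) t) := by
    rw [θ_of, ← map_mul, huv]
    rfl
  obtain ⟨ψ, hs, h0, h1'⟩ := exists_surj u v hres.2 hgen
    (algebraMap S (AdicCompletion (maximalIdeal S) S) u)
    (algebraMap S (AdicCompletion (maximalIdeal S) S) v)
    (algebraMap R (AdicCompletion (maximalIdeal R) R) t)
    (by rw [sub_self]; exact zero_mem _) (by rw [sub_self]; exact zero_mem _) hxy
  -- the residue field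
  let κ₀ : k →+* ResidueField R := (IsLocalRing.residue R).comp (algebraMap k R)
  have hκ₀ : Function.Bijective κ₀ := by
    refine ⟨κ₀.injective, ?_⟩
    intro z
    obtain ⟨r, rfl⟩ := IsLocalRing.residue_surjective z
    obtain ⟨c₀, hc₀⟩ := hres₀ (algebraMap R S r)
    refine ⟨c₀, ?_⟩
    show IsLocalRing.residue R (algebraMap k R c₀) = IsLocalRing.residue R r
    symm
    rw [← sub_eq_zero, ← map_sub, IsLocalRing.residue_eq_zero_iff]
    by_contra hnot
    have hu' : IsUnit (r - algebraMap k R c₀) := by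
      rwa [mem_maximalIdeal, mem_nonunits_iff, not_not] at hnot
    have h3 := hu'.map (algebraMap R S)
    rw [map_sub, ← IsScalarTower.algebraMap_apply k R S] at h3
    exact (mem_nonunits_iff.mp ((mem_maximalIdeal _).mp hc₀)) h3
  let κ : k ≃+* ResidueField R := RingEquiv.ofBijective κ₀ hκ₀
  haveI : IsAdicComplete ((maximalIdeal S).map (Ideal.Quotient.mk
      (Ideal.map (algebraMap R S) (maximalIdeal R))))
      (S ⧸ Ideal.map (algebraMap R S) (maximalIdeal R)) :=
    Groth.Agent.H8.Rig.isAdicComplete_quotient S (maximalIdeal S) _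
  let e1 : AdicCompletion ((maximalIdeal S).map (Ideal.Quotient.mk
      (Ideal.map (algebraMap R S) (maximalIdeal R))))
      (S ⧸ Ideal.map (algebraMap R S) (maximalIdeal R)) ≃+*
      (S ⧸ Ideal.map (algebraMap R S) (maximalIdeal R)) :=
    (AdicCompletion.ofAlgEquiv _).symm.toRingEquiv
  let e2 : (S ⧸ Ideal.map (algebraMap R S) (maximalIdeal R)) ≃+* Tq k := (e.trans eT).toRingEquiv
  let e3 : Tq k ≃+* (MvPowerSeries (Fin 2) (ResidueField R) ⧸
      Ideal.span {(X 0 * X 1 : MvPowerSeries (Fin 2) (ResidueField R))}) :=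
    Ideal.quotientEquiv _ _ (psEquiv κ) (by
      rw [Ideal.map_span, Set.image_singleton, psEquiv_hom_apply, map_mul, map_X, map_X])
  -- injectivity
  haveI : IsScalarTower R S (AdicCompletion (maximalIdeal S) S) :=
    IsScalarTower.of_algebraMap_eq (fun _ => rfl)
  haveI : Module.Flat R (AdicCompletion (maximalIdeal S) S) :=
    Module.Flat.trans R S (AdicCompletion (maximalIdeal S) S)
  haveI : IsNoetherianRing (AdicCompletion (maximalIdeal R) R) :=
    Groth.Agent.S0543.result R (maximalIdeal R)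
  obtain ⟨m, a, ha⟩ := Submodule.fg_iff_exists_fin_generating_family.mp
    (IsNoetherian.noetherian (maximalIdeal R))
  have ha' : Ideal.span (Set.range a) = maximalIdeal R := ha
  have hK := ker_le_map (algebraMap R (AdicCompletion (maximalIdeal R) R) t) hα ψ hs
    (e1.trans (e2.trans e3)) a ha'
  have hJ := map_le_jacobson (A := R) (algebraMap R (AdicCompletion (maximalIdeal R) R) t)
  have hK0 : RingHom.ker ψ.toRingHom = ⊥ := by
    refine Submodule.eq_bot_of_le_smul_of_le_jacobson_bot _ _ (IsNoetherian.noetherian _) ?_ hJ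
    intro z hz
    have h3 := ker_inf_le_mul ψ hs a ⟨hz, by rw [ha']; exact hK hz⟩
    rw [ha'] at h3
    exact h3
  have hinj : Function.Injective ψ := (RingHom.injective_iff_ker_eq_bot ψ.toRingHom).mpr hK0
  let Ψ : (MvPowerSeries (Fin 2) (AdicCompletion (maximalIdeal R) R) ⧸ Ideal.span
      {(X 0 * X 1 - C (algebraMap R (AdicCompletion (maximalIdeal R) R) t) :
        MvPowerSeries (Fin 2) (AdicCompletion (maximalIdeal R) R))}) ≃ₐ[R]
      AdicCompletion (maximalIdeal S) S := AlgEquiv.ofBijective ψ ⟨hinj, hs⟩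
  -- transport to `R` and `S`
  let cR : R ≃+* AdicCompletion (maximalIdeal R) R :=
    (AdicCompletion.ofAlgEquiv (maximalIdeal R)).toRingEquiv
  have hcR : ∀ r, cR r = algebraMap R (AdicCompletion (maximalIdeal R) R) r := fun r =>
    (AdicCompletion.ofAlgEquiv (maximalIdeal R)).commutes r
  let FNr : (MvPowerSeries (Fin 2) R ⧸
      Ideal.span {(X 0 * X 1 - C t : MvPowerSeries (Fin 2) R)}) ≃+*
      (MvPowerSeries (Fin 2) (AdicCompletion (maximalIdeal R) R) ⧸ Ideal.span
      {(X 0 * X 1 - C (algebraMap R (AdicCompletion (maximalIdeal R) R) t) :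
        MvPowerSeries (Fin 2) (AdicCompletion (maximalIdeal R) R))}) :=
    Ideal.quotientEquiv _ _ (psEquiv cR) (by
      rw [Ideal.map_span, Set.image_singleton, psEquiv_hom_apply, map_sub, map_mul, map_X, map_X,
        map_C, RingEquiv.coe_toRingHom, hcR])
  have hFNr_mk : ∀ g : MvPowerSeries (Fin 2) R,
      FNr (Ideal.Quotient.mk _ g) = Ideal.Quotient.mk _ (MvPowerSeries.map (cR : R →+* _) g) :=
    fun g => rfl
  let FN : (MvPowerSeries (Fin 2) R ⧸
      Ideal.span {(X 0 * X 1 - C t : MvPowerSeries (Fin 2) R)}) ≃ₐ[R]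
      (MvPowerSeries (Fin 2) (AdicCompletion (maximalIdeal R) R) ⧸ Ideal.span
      {(X 0 * X 1 - C (algebraMap R (AdicCompletion (maximalIdeal R) R) t) :
        MvPowerSeries (Fin 2) (AdicCompletion (maximalIdeal R) R))}) :=
    AlgEquiv.ofRingEquiv (f := FNr) (fun r => by
      have h3 : algebraMap R (MvPowerSeries (Fin 2) R ⧸
          Ideal.span {(X 0 * X 1 - C t : MvPowerSeries (Fin 2) R)}) r =
          Ideal.Quotient.mk _ (C r) := rfl
      rw [h3, hFNr_mk, map_C, RingEquiv.coe_toRingHom, hcR]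
      have h4 : (C (algebraMap R (AdicCompletion (maximalIdeal R) R) r) :
          MvPowerSeries (Fin 2) (AdicCompletion (maximalIdeal R) R)) =
          algebraMap R (MvPowerSeries (Fin 2) (AdicCompletion (maximalIdeal R) R)) r :=
        MvPowerSeries.algebraMap_apply.symm
      rw [h4]
      rfl)
  have hFN_mk : ∀ g : MvPowerSeries (Fin 2) R,
      FN (Ideal.Quotient.mk _ g) = Ideal.Quotient.mk _ (MvPowerSeries.map (cR : R →+* _) g) :=
    fun g => rfl
  let cS : S ≃ₐ[S] AdicCompletion (maximalIdeal S) S :=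
    AdicCompletion.ofAlgEquiv (maximalIdeal S)
  let G : (MvPowerSeries (Fin 2) R ⧸
      Ideal.span {(X 0 * X 1 - C t : MvPowerSeries (Fin 2) R)}) ≃ₐ[R] S :=
    (FN.trans Ψ).trans (cS.symm.restrictScalars R)
  have hG_apply : ∀ z, G z = cS.symm (ψ (FN z)) := fun _ => rfl
  have hG0 : G (Ideal.Quotient.mk _ (X 0)) = u := by
    rw [hG_apply, hFN_mk, map_X, h0]
    exact cS.symm.commutes u
  have hG1 : G (Ideal.Quotient.mk _ (X 1)) = v := by
    rw [hG_apply, hFN_mk, map_X, h1']
    exact cS.symm.commutes v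
  refine ⟨t, ξ₁, ξ₂, h1, h2', ht0, G.symm, ?_, ?_⟩
  · rw [AlgEquiv.symm_symm, hG0]
    have h3 : σ u = algebraMap k R ξ₂ • u := by
      rw [← hσr, hσu, Algebra.smul_def, ← IsScalarTower.algebraMap_apply k R S]
    rw [h3, map_smul, ← hG0, AlgEquiv.symm_apply_apply]
  · rw [AlgEquiv.symm_symm, hG1]
    have h3 : σ v = algebraMap k R ξ₁ • v := by
      rw [← hσr, hσv, Algebra.smul_def, ← IsScalarTower.algebraMap_apply k R S]
    rw [h3, map_smul, ← hG1, AlgEquiv.symm_apply_apply]

end Groth.Agent.H8.NodeInv
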